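import Cfsg.Agent.Omega.NO3b.ZP.Base.OZ
import Cfsg.Agent.Omega.NO3b.ZP.Alpha
import Cfsg.Agent.Omega.NO3b.Base.MovePt
import Cfsg.Agent.Omega.NO3b.Base.SitW

/-!
# The moving base point (#22211, helper16; #22310, helper506), seed `1 ≠ Z ≤ Ω₁(Z(S))`

`Base/MovePt.lean`, `Base/MoveCent.lean` with `LinesZ S Z B V` and `CF S D = C_G(D) ∩ C_G(Ω₁(Z(S)))` :
**`MPtZ.cent_le` : `CF S D ≤ N_G(Lb D)` for all `Z ≤ D ≤ V`**, so `C_G(Ω₁(Z(S))) ≤ N_G(Lb Z)`.
-/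

set_option autoImplicit false

namespace Cfsg.Agent.Omega.NO3b.ZP.Base

open Subgroup Cfsg
open Cfsg.Agent.ZN (o2 zc zl jj zj)
open Cfsg.Agent.ZN.ChoiceBase hiding mem_zc
open Cfsg.Agent.ZN.ChoiceSit (Syl exists_syl syl_conj o2_le_syl syl_not_dvd)
open Cfsg.Agent.MinSimple.EmptyTI (syl_of_le)
open Cfsg.Agent.Omega.NO3b.EZero (NotFF cent_symm cj_cent cj_norm cj_eq_cj_iff cl le_cl cj_le_cl cl_le
  le_normalizer_cl le_normalizer_inf_cent oddGen_sup_syl isPGroup_Q0)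
open Cfsg.Agent.Omega.NOThreeL.Star (Opt Ok exists_opt ff)
open Cfsg.Agent.Omega.NO3b.Wc (StmtOff)
open Cfsg.Agent.Omega.NO3b.Base (PanZ SitW)
open Cfsg.Agent.MinSimple.MinParabolic (IsMinPar)
open Cfsg.Agent.MinSimple.VModule (le_centralizer_zc le_normalizer_o2 o2_isPGroup oddGen oddGen_le)

universe u

variable {G : Type u} [Group G] [Finite G] {S : Sylow 2 G} {Z B V : Subgroup G} {Lb : Subgroup G → Subgroup G}

/-- The moving base point. -/
structure MPtZ (S : Sylow 2 G) (Z B V : Subgroup G) (Lb : Subgroup G → Subgroup G) : Prop where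
  le : ∀ D : Subgroup G, Z ≤ D → D ≤ V → D ≤ Lb D
  leV : ∀ D : Subgroup G, Z ≤ D → D ≤ V → Lb D ≤ V
  mono : ∀ D D' : Subgroup G, Z ≤ D → D ≤ D' → D' ≤ V → Lb D ≤ Lb D'
  eqv : ∀ D : Subgroup G, Z ≤ D → D ≤ V → ∀ m : G,
    m ∈ centralizer (zc (S : Subgroup G) : Set G) → m ∈ normalizer (B : Set G) → Lb (cj m D) = cj m (Lb D)
  prop : ∀ D : Subgroup G, Z ≤ D → D ≤ V → ¬ CF S D ≤ normalizer (V : Set G) → Lb D ≠ V
  nfl : ∀ D : Subgroup G, Z ≤ D → D ≤ V → ¬ CF S D ≤ normalizer (V : Set G) →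
    ∀ A : Subgroup G, A ≤ (S : Subgroup G) → A ≤ centralizer (D : Set G) →
    (∀ a ∈ A, ∀ v ∈ V, a * v * a⁻¹ * v⁻¹ ∈ D) → ¬ A ≤ centralizer (Lb D : Set G) →
    (centralizer (Lb D : Set G)).relIndex A < (centralizer (A : Set G)).relIndex (Lb D)

/-- `N_G(P) ≤ N_G(B)` for a 2-group `P ≥ B`. -/
theorem norm_le_normB (l : LinesZ S Z B V) {P : Subgroup G} (hP : IsPGroup 2 P) (hBP : B ≤ P) :
    normalizer (P : Set G) ≤ normalizer (B : Set G) := by
  obtain ⟨a, h1, h2, -⟩ := l.exists_point hP (a := 1) (by rw [cj_one]; exact hBP)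
  rw [cj_one] at h2
  intro t ht
  rw [mem_normalizer_iff_cj]
  have h3 : cj (a⁻¹ * t) B ≤ (S : Subgroup G) := by
    have h4 := cj_mono t hBP
    rw [mem_normalizer_iff_cj.1 ht] at h4
    have h5 := cj_mono a⁻¹ (h4.trans h1)
    rwa [cj_cj, cj_inv_cj] at h5
  have h4 := l.wc _ h3
  have h6 : a * (a⁻¹ * t) ∈ normalizer (B : Set G) := mul_mem (mem_normalizer_iff_cj.2 h2)
    (mem_normalizer_iff_cj.2 h4)
  rw [mul_inv_cancel_left] at h6
  exact mem_normalizer_iff_cj.1 h6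

/-- Frattini: `X = C_X(E) (X ∩ N_G(B))` for `X ≥ B`, `E ≤ V` normal in `X`. -/
theorem frat (l : LinesZ S Z B V) {X E : Subgroup G} (hBX : B ≤ X) (hEV : E ≤ V)
    (hXE : X ≤ normalizer (E : Set G)) {c : G} (hc : c ∈ X) :
    ∃ k ∈ X ⊓ centralizer (E : Set G), ∃ n ∈ X ⊓ normalizer (B : Set G), c = k * n := by
  have hB : B ≤ X ⊓ centralizer (E : Set G) := le_inf hBX (l.JV.trans (centralizer_le hEV))
  obtain ⟨P, hP, hBP⟩ := exists_syl (S.isPGroup'.to_le l.JS) hB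
  have hn : X ≤ normalizer ((X ⊓ centralizer (E : Set G) : Subgroup G) : Set G) := le_normalizer_inf_cent hXE
  have h1 : Syl (cj c P) (X ⊓ centralizer (E : Set G)) := by
    have hC : X ⊓ centralizer (E : Set G) = cj c (X ⊓ centralizer (E : Set G)) :=
      (cj_eq_of_mem_normalizer (hn hc)).symm
    rw [hC]
    refine ⟨cj_mono _ hP.1, isPGroup_cj _ hP.2.1, fun Q hQ hp hle => ?_⟩
    have h2 := hP.2.2 (cj c⁻¹ Q) (by
      rw [cj_le_iff, inv_inv]; exact hQ) (isPGroup_cj _ hp) (by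
      have h3 := cj_mono c⁻¹ hle
      rwa [cj_inv_cj] at h3)
    rw [← h2, cj_cj_inv]
  obtain ⟨k, hk, hkP⟩ := syl_conj h1 hP
  rw [cj_cj] at hkP
  have h2 : k * c ∈ normalizer (P : Set G) := mem_normalizer_iff_cj.2 hkP
  refine ⟨k⁻¹, inv_mem hk, k * c, ⟨mul_mem hk.1 hc, norm_le_normB l hP.2.1 hBP h2⟩, by group⟩

/-- `B ≤ CF S D` -/
theorem B_le_CF (l : LinesZ S Z B V) {D : Subgroup G} (hD : D ≤ V) : B ≤ CF S D :=
  le_inf (l.JV.trans (centralizer_le hD)) (l.JS.trans zc_cent)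

theorem CF_le_Z (l : LinesZ S Z B V) (D : Subgroup G) : CF S D ≤ centralizer (Z : Set G) :=
  inf_le_right.trans (centralizer_le l.Zc)

/-- lines over `D` are conjugate in `CF S D` -/
theorem exists_cF (l : LinesZ S Z B V) {D : Subgroup G} (hD : D ≤ V) {g : G}
    (hg : g ∈ centralizer (zc (S : Subgroup G) : Set G)) (hDg : D ≤ cj g V) : ∃ c ∈ CF S D, cj c V = cj g V := by
  have h1 : cj 1 B ≤ CF S D := by
    rw [cj_one]; exact B_le_CF l hD
  have h2 : cj g B ≤ CF S D := by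
    refine le_inf ((cj_cent l.JV).trans (centralizer_le hDg)) ?_
    have h3 := cj_mono g (l.JS.trans zc_cent)
    rwa [cj_eq_of_mem_normalizer (Subgroup.le_normalizer hg)] at h3
  obtain ⟨x, hx, hxg⟩ := l.exists_conj h1 h2
  rw [cj_one] at hxg
  exact ⟨x, hx, hxg⟩

namespace MPtZ

variable (q : MPtZ S Z B V Lb) (l : LinesZ S Z B V)
include q l

/-- `CF S D ∩ N_G(V) ≤ N_G(Lb D)` -/
theorem stab {D : Subgroup G} (hZ : Z ≤ D) (hD : D ≤ V) :
    CF S D ⊓ normalizer (V : Set G) ≤ normalizer (Lb D : Set G) := by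
  intro c hc
  obtain ⟨k, hk, n, hn, rfl⟩ := frat l (X := CF S D ⊓ normalizer (V : Set G)) (E := V)
    (le_inf (B_le_CF l hD) (l.JV.trans (centralizer_le_normalizer _))) le_rfl inf_le_right hc
  refine mul_mem ?_ ?_
  · exact centralizer_le_normalizer _ (centralizer_le (q.leV D hZ hD) hk.2)
  · have h1 := q.eqv D hZ hD n hn.1.1.2 hn.2
    rw [cj_eq_of_mem_normalizer (centralizer_le_normalizer _ hn.1.1.1)] at h1
    exact mem_normalizer_iff_cj.2 h1.symm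

end MPtZ

/-- `D` maximal in `V` with `Z ≤ D`, `CF S D ≰ N_G(Lb D)`; `T ≤ S` Sylow in `CF S D`; `Y ≥ T` minimal in `CF S D` with
`Y ≰ N_G(Lb D)`. -/
structure MxZ (S : Sylow 2 G) (Z V : Subgroup G) (Lb : Subgroup G → Subgroup G) (D T Y : Subgroup G) : Prop where
  ZD : Z ≤ D
  DV : D ≤ V
  max : ∀ D' : Subgroup G, D ≤ D' → D' ≤ V → D' ≠ D → CF S D' ≤ normalizer (Lb D' : Set G)
  T_le : T ≤ (S : Subgroup G)
  syl : Syl T (CF S D)
  TY : T ≤ Y
  YD : Y ≤ CF S D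
  nle : ¬ Y ≤ normalizer (Lb D : Set G)
  min : ∀ M : Subgroup G, T ≤ M → M ≤ Y → M ≠ Y → M ≤ normalizer (Lb D : Set G)

theorem cj_CF {c : G} (hc : c ∈ centralizer (zc (S : Subgroup G) : Set G)) (F : Subgroup G) :
    cj c (CF S F) = CF S (cj c F) := by
  unfold CF
  rw [cj_inf, cj_centralizer, cj_eq_of_mem_normalizer (Subgroup.le_normalizer hc)]

/-- **`D`, `T`, `Y` exist.** -/
theorem exists_mx (l : LinesZ S Z B V) (q : MPtZ S Z B V Lb) {D₁ : Subgroup G} (hZ₁ : Z ≤ D₁)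
    (hV₁ : D₁ ≤ V) (hn : ¬ CF S D₁ ≤ normalizer (Lb D₁ : Set G)) :
    ∃ D T Y, MxZ S Z V Lb D T Y := by
  obtain ⟨F, hF, hmax⟩ := Set.exists_max_image
    {F : Subgroup G | Z ≤ F ∧ F ≤ V ∧ ¬ CF S F ≤ normalizer (Lb F : Set G)}
    (fun F => Nat.card F) (Set.toFinite _) ⟨_, hZ₁, hV₁, hn⟩
  obtain ⟨T, hT, hJT⟩ := exists_syl (S.isPGroup'.to_le l.JS) (B_le_CF l hF.2.1)
  have hTB : T ≤ normalizer (B : Set G) := Subgroup.le_normalizer.trans (norm_le_normB l hT.2.1 hJT)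
  have hTZ : T ≤ centralizer (zc (S : Subgroup G) : Set G) := hT.1.trans inf_le_right
  obtain ⟨T₁, hT₁, hTT₁⟩ := exists_syl hT.2.1 (le_inf hTZ hTB)
  obtain ⟨c, hc, hcT⟩ := syl_conj hT₁ (syl_of_le (le_inf (zc_cent (S := S)) l.S_le_NJ))
  have hcV : cj c V = V := mem_normalizer_iff_cj.1 (l.NJ hc.2)
  have hcZ : cj c Z = Z := cj_eq_of_mem_normalizer (centralizer_le_normalizer _ (centralizer_le l.Zc hc.1))
  have hZ : Z ≤ cj c F := by
    have h1 := cj_mono c hF.1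
    rwa [hcZ] at h1
  have hFV : cj c F ≤ V := by
    have h1 := cj_mono c hF.2.1
    rwa [hcV] at h1
  have hL : Lb (cj c F) = cj c (Lb F) := q.eqv F hF.1 hF.2.1 c hc.1 hc.2
  have hnle : ¬ CF S (cj c F) ≤ normalizer (Lb (cj c F) : Set G) := by
    intro h0
    apply hF.2.2
    rw [hL, ← cj_CF hc.1, ← cj_normalizer] at h0
    have h1 := cj_mono c⁻¹ h0
    rwa [cj_inv_cj, cj_inv_cj] at h1
  have hsyl : Syl (cj c T) (CF S (cj c F)) := by
    rw [← cj_CF hc.1]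
    refine ⟨cj_mono _ hT.1, isPGroup_cj _ hT.2.1, fun Q hQ hp hle => ?_⟩
    have h2 := hT.2.2 (cj c⁻¹ Q) (by
      rw [cj_le_iff, inv_inv]; exact hQ) (isPGroup_cj _ hp) (by
      have h3 := cj_mono c⁻¹ hle
      rwa [cj_inv_cj] at h3)
    rw [← h2, cj_cj_inv]
  obtain ⟨Y, hY, hmin⟩ := Set.exists_min_image {P : Subgroup G | cj c T ≤ P ∧
      P ≤ CF S (cj c F) ∧ ¬ P ≤ normalizer (Lb (cj c F) : Set G)}
    (fun P => Nat.card P) (Set.toFinite _) ⟨_, hsyl.1, le_rfl, hnle⟩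
  refine ⟨cj c F, cj c T, Y, ⟨hZ, hFV, fun D' h1 h2 h3 => ?_, (cj_mono c hTT₁).trans hcT.le, hsyl, hY.1, hY.2.1,
    hY.2.2, fun M hTM hMP hne => ?_⟩⟩
  · by_contra hcon
    refine h3 (eq_of_le_of_card_ge h1 ?_).symm
    rw [card_cj]
    exact hmax D' ⟨hZ.trans h1, h2, hcon⟩
  · by_contra hcon
    exact hne (eq_of_le_of_card_ge hMP (hmin M ⟨hTM, hMP.trans hY.2.1, hcon⟩))

namespace MxZ

variable {D T Y : Subgroup G} (m : MxZ S Z V Lb D T Y)
include m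

theorem YZ : Y ≤ centralizer (zc (S : Subgroup G) : Set G) := m.YD.trans inf_le_right

theorem YD' : Y ≤ centralizer (D : Set G) := m.YD.trans inf_le_left

theorem T_eq : (S : Subgroup G) ⊓ centralizer (D : Set G) = T :=
  m.syl.2.2 _ (le_inf inf_le_right (inf_le_left.trans zc_cent)) (S.isPGroup'.to_le inf_le_left)
    (le_inf m.T_le (m.syl.1.trans inf_le_left))

theorem sylY : Syl T Y := ⟨m.TY, m.syl.2.1, fun Q hQ hp hle => m.syl.2.2 Q (hQ.trans m.YD) hp hle⟩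

theorem cs_le : (S : Subgroup G) ⊓ centralizer (V : Set G) ≤ T := by
  rw [← m.T_eq]
  exact inf_le_inf_left _ (centralizer_le m.DV)

theorem cjD {y : G} (hy : y ∈ Y) : cj y D = D :=
  cj_eq_of_mem_normalizer (centralizer_le_normalizer _ (m.YD' hy))

theorem nleD : ¬ Lb D ≤ D := fun h0 =>
  m.nle (m.YD'.trans ((centralizer_le h0).trans (centralizer_le_normalizer _)))

variable (q : MPtZ S Z B V Lb) (l : LinesZ S Z B V)
include q l

theorem nleV : ¬ Y ≤ normalizer (V : Set G) := fun h0 => m.nle ((le_inf m.YD h0).trans (q.stab l m.ZD m.DV))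

/-- `V ∩ V^y ≤ D` for `y ∈ Y - N_G(Lb D)` -/
theorem line {y : G} (hy : y ∈ Y) (hyD : y ∉ normalizer (Lb D : Set G)) : V ⊓ cj y V ≤ D := by
  have hD : D ≤ V ⊓ cj y V := by
    refine le_inf m.DV ?_
    have h1 := cj_mono y m.DV
    rwa [m.cjD hy] at h1
  by_cases hne : V ⊓ cj y V = D
  · exact hne.le
  exfalso
  apply hyD
  obtain ⟨c, hc, hcy⟩ := exists_cF l (D := V ⊓ cj y V) inf_le_left (m.YZ hy) inf_le_right
  have hcD : c ∈ CF S D := CF_anti S hD hc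
  have h1 : c⁻¹ * y ∈ normalizer (V : Set G) := cj_eq_cj_iff.1 hcy.symm
  have h0 : c⁻¹ * y ∈ CF S D := mul_mem (inv_mem hcD) (m.YD hy)
  have h2 := q.stab l m.ZD m.DV ⟨h0, h1⟩
  have hc' : c ∈ normalizer (Lb D : Set G) := by
    have hX := m.max _ hD inf_le_left hne
    obtain ⟨k, hk, n, hn, rfl⟩ := frat l (X := CF S (V ⊓ cj y V)) (E := Lb (V ⊓ cj y V))
      (B_le_CF l inf_le_left) (q.leV _ (m.ZD.trans hD) inf_le_left) hX hc
    refine mul_mem ?_ ?_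
    · exact centralizer_le_normalizer _ (centralizer_le (q.mono D _ m.ZD hD inf_le_left) hk.2)
    · exact q.stab l m.ZD m.DV ⟨CF_anti S hD hn.1, l.NJ hn.2⟩
  have h3 := mul_mem hc' h2
  rwa [mul_inv_cancel_left] at h3

/-- `Y` is a minimal parabolic over `T`. -/
theorem isMinPar (cs : (S : Subgroup G) ⊓ centralizer (V : Set G) = B) : IsMinPar T Y := by
  refine ⟨m.TY, fun h0 => m.nle ?_, Y ⊓ normalizer (Lb D : Set G), ?_, fun K hK hKP =>
    le_inf hKP.le (m.min K hK hKP.le hKP.ne)⟩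
  · have h1 : Y ≤ normalizer (V : Set G) := h0.trans ((norm_le_normB l m.syl.2.1 (by
      rw [← cs]; exact m.cs_le)).trans l.NJ)
    exact (le_inf m.YD h1).trans (q.stab l m.ZD m.DV)
  · exact lt_of_le_of_ne inf_le_left fun h1 => m.nle (inf_eq_left.1 h1)

/-- The panel of LEMMA OZ. -/
theorem panZ (cs : (S : Subgroup G) ⊓ centralizer (V : Set G) = B) : PanZ S B V T Y where
  TS := m.T_le
  BT := by rw [← cs]; exact m.cs_le
  syl := m.sylY
  mp := m.isMinPar q l cs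
  XZ := m.YZ
  nle := m.nleV q l

theorem sitW (hG : IsCharacteristicTwoType G) (cs : (S : Subgroup G) ⊓ centralizer (V : Set G) = B) :
    SitW V (Lb D) D T Y (Y ⊓ normalizer (Lb D : Set G)) (cl V ((S : Subgroup G) ⊔ Y)) where
  cm := cl_comm l ((m.panZ q l cs).SX_centZ l) hG
  sq := cl_sq l ((m.panZ q l cs).SX_centZ l) hG
  VU := le_cl _ _
  XU := le_sup_right.trans (le_normalizer_cl _ _)
  LV := q.leV D m.ZD m.DV
  FL := q.le D m.ZD m.DV
  nz := m.nleD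
  XF := m.YD'
  syl := m.sylY
  mp := m.isMinPar q l cs
  TV := m.T_le.trans l.S_le
  TK := le_inf m.TY (m.min T le_rfl m.TY fun h0 => by
    have h1 := (m.isMinPar q l cs).not_le
    rw [← h0] at h1
    exact h1 Subgroup.le_normalizer)
  KX := inf_le_left
  KL := inf_le_right
  cK := by
    refine le_inf inf_le_left ?_
    refine le_trans (le_inf (inf_le_left.trans m.YD) ?_) (q.stab l m.ZD m.DV)
    exact (inf_le_right.trans (centralizer_le (le_cl _ _))).trans (centralizer_le_normalizer _)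
  nK := fun h0 => m.nle (h0.trans inf_le_right)
  min := fun M h1 h2 h3 => le_inf h2 (m.min M h1 h2 h3)
  ti := fun x hx hn => m.line q l hx fun h0 => hn ⟨hx, h0⟩
  nffV := fun A hA hsq hcm hne => l.nff A (m.syl.2.1.to_le hA) ((hA.trans m.T_le).trans l.S_le) hsq hcm hne
  nffL := fun A hA hF hne => q.nfl D m.ZD m.DV (fun h0 => m.nleV q l (m.YD.trans h0)) A (hA.trans m.T_le)
    (hA.trans (m.TY.trans m.YD')) hF hne

/-- **`V = Lb D`** (THEOREM L with two lines) -/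
theorem V_eq (hG : IsCharacteristicTwoType G) (cs : (S : Subgroup G) ⊓ centralizer (V : Set G) = B) {A : Subgroup G}
    (hA : Opt (cl V ((S : Subgroup G) ⊔ Y)) A) (hAT : A ≤ T) (hAY : ¬ A ≤ o2 Y) : V = Lb D :=
  (m.sitW q l hG cs).eq hA hAT hAY

end MxZ

/-- **`CF S D ≤ N_G(Lb D)` for all `Z ≤ D ≤ V`.** -/
theorem MPtZ.cent_le (q : MPtZ S Z B V Lb) (hG : IsCharacteristicTwoType G)
    (l : LinesZ S Z B V) (cs : (S : Subgroup G) ⊓ centralizer (V : Set G) = B)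
    (oz : ∀ T Y : Subgroup G, PanZ S B V T Y →
      ∃ A, Opt (cl V ((S : Subgroup G) ⊔ Y)) A ∧ A ≤ B ∧ ¬ A ≤ o2 Y)
    {D : Subgroup G} (hZ : Z ≤ D) (hD : D ≤ V) : CF S D ≤ normalizer (Lb D : Set G) := by
  by_contra hn
  obtain ⟨D', T, Y, m⟩ := exists_mx l q hZ hD hn
  have p := m.panZ q l cs
  obtain ⟨A, hA, hAB, hAY⟩ := oz T Y p
  have hV := m.V_eq q l hG cs hA (hAB.trans p.BT) hAY
  exact q.prop D' m.ZD m.DV (fun h0 => m.nleV q l (m.YD.trans h0)) hV.symm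

/-- `C_G(Ω₁(Z(S))) ≤ N_G(Lb Z)` -/
theorem MPtZ.cent_zc_le (q : MPtZ S Z B V Lb) (hG : IsCharacteristicTwoType G)
    (l : LinesZ S Z B V) (cs : (S : Subgroup G) ⊓ centralizer (V : Set G) = B)
    (oz : ∀ T Y : Subgroup G, PanZ S B V T Y →
      ∃ A, Opt (cl V ((S : Subgroup G) ⊔ Y)) A ∧ A ≤ B ∧ ¬ A ≤ o2 Y) :
    centralizer (zc (S : Subgroup G) : Set G) ≤ normalizer (Lb Z : Set G) :=
  (le_inf (centralizer_le l.Zc) le_rfl : centralizer (zc (S : Subgroup G) : Set G) ≤ CF S Z).trans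
    (q.cent_le hG l cs oz le_rfl l.ZV)

/-- with LEMMA OZ -/
theorem MPtZ.cent_le_of_oz (q : MPtZ S Z B V Lb) {Z₁ : Subgroup G} (o : OZZ S Z Z₁ B V)
    (hG : IsCharacteristicTwoType G) (hOff : StmtOff G)
    {D : Subgroup G} (hZ : Z ≤ D) (hD : D ≤ V) : CF S D ≤ normalizer (Lb D : Set G) :=
  q.cent_le hG o.lines o.cs (fun _ _ p => p.exists_optYZ o hG hOff) hZ hD

/-- at the last stage of a chain with the steps `PanZ` (`PanZ.step_ofZ`) -/
theorem MPtZ.cent_le_of_last (q : MPtZ S Z B V Lb) {Z₁ : Subgroup G} (hG : IsCharacteristicTwoType G)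
    (hOff : StmtOff G) (l : LinesZ S Z B V)
    (cs : (S : Subgroup G) ⊓ centralizer (V : Set G) = B) (eq : V = cl Z₁ (normalizer (B : Set G)))
    (zZ : Z ≤ Z₁)
    (last : ∀ T X : Subgroup G, PanZ S B V T X →
      (∃ R : Subgroup G, R ≠ ⊥ ∧ IsPGroup 2 R ∧ normalizer (B : Set G) ≤ normalizer (R : Set G) ∧
        X ≤ normalizer (R : Set G)) →
      NotFF (cl Z₁ (normalizer (B : Set G) ⊔ X)) →
      ¬ cl Z₁ (normalizer (B : Set G) ⊔ X) ≤ o2 (centralizer (Z : Set G)))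
    {D : Subgroup G} (hZ : Z ≤ D) (hD : D ≤ V) : CF S D ≤ normalizer (Lb D : Set G) := by
  refine q.cent_le hG l cs (fun T Y p => p.exists_opt_of_ffZ l cs hG fun hn => ?_) hZ hD
  obtain ⟨h1, h2, h3⟩ := p.step_ofZ l cs eq zZ hG hOff hn
  exact last T Y p h1 h2 h3

end Cfsg.Agent.Omega.NO3b.ZP.Base
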