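import Cfsg.Agent.Omega.NO3b.ZP.Base.Move
import Cfsg.Agent.Omega.NO3b.ZP.LocG
import Cfsg.Agent.Omega.NO3b.Final

/-!
# LEMMA OZ and the base point for `ZP.LocG` (seed `1 ≠ Z ≤ Ω₁(Z(S))`)

* `ozz_of_locG`, `exists_opt_of_locG` : LEMMA OZ;
* `move_of_locG` : `CF S D ≤ N_G(Lb D)` for all `Z ≤ D ≤ V`; `move_zc_of_locG` : `C_G(Ω₁(Z(S))) ≤ N_G(Lb Z)`.
-/

set_option autoImplicit false

namespace Cfsg.Agent.Omega.NO3b.ZP.Base

open Subgroup Cfsg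
open Cfsg.Agent.ZN (o2 zc zl)
open Cfsg.Agent.Omega.NO3b.EZero (NotFF cl)
open Cfsg.Agent.Omega.NOThreeL.Star (Opt)
open Cfsg.Agent.Omega.NO3b.Base (PanZ)

universe u

variable {G : Type u} [Group G] [Finite G] {S : Sylow 2 G} {Z M B : Subgroup G} {Lb : Subgroup G → Subgroup G}

theorem ozz_of_locG (h : LocG S Z M B) : OZZ S Z Z B (VB Z B) where
  lines := h.adm.lines
  cs := h.adm.cs
  eq := rfl
  zZ := le_rfl
  max := fun B' hle hwc hcs hcm hsq hnf hlow hV => by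
    have a : Adm S Z M B' := ⟨h.adm.Zne, h.adm.Zc, hwc, hle.trans h.adm.le, hcs, hcm, hsq, hnf, hlow⟩
    exact (eq_of_le_of_card_ge hV (h.max B' a)).ge

/-- **LEMMA OZ** for `ZP.LocG` -/
theorem exists_opt_of_locG (h : LocG S Z M B) (hG : IsCharacteristicTwoType G) {T X : Subgroup G}
    (p : PanZ S B (VB Z B) T X) :
    ∃ A, Opt (cl (VB Z B) ((S : Subgroup G) ⊔ X)) A ∧ A ≤ B ∧ ¬ A ≤ o2 X :=
  p.exists_optYZ (ozz_of_locG h) hG (NO3b.Final.stmtOff G)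

/-- **`CF S D ≤ N_G(Lb D)`** for `ZP.LocG` -/
theorem move_of_locG (h : LocG S Z M B) (q : MPtZ S Z B (VB Z B) Lb) (hG : IsCharacteristicTwoType G)
    {D : Subgroup G} (hZ : Z ≤ D) (hD : D ≤ VB Z B) : CF S D ≤ normalizer (Lb D : Set G) :=
  q.cent_le_of_oz (ozz_of_locG h) hG (NO3b.Final.stmtOff G) hZ hD

/-- **`C_G(Ω₁(Z(S))) ≤ N_G(Lb Z)`** for `ZP.LocG` -/
theorem move_zc_of_locG (h : LocG S Z M B) (q : MPtZ S Z B (VB Z B) Lb) (hG : IsCharacteristicTwoType G) :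
    centralizer (zc (S : Subgroup G) : Set G) ≤ normalizer (Lb Z : Set G) :=
  (le_inf (centralizer_le h.adm.Zc) le_rfl : centralizer (zc (S : Subgroup G) : Set G) ≤ CF S Z).trans
    (move_of_locG h q hG le_rfl h.adm.lines.ZV)

end Cfsg.Agent.Omega.NO3b.ZP.Base
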