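import Cfsg.Agent.Omega.NO3b.ZP.Base.Wcy
import Cfsg.Agent.Omega.NO3b.Base.OZ

/-!
# LEMMA OZ (#19027, helper602), seed `1 ≠ Z ≤ Ω₁(Z(S))`, exits in `C_G(Ω₁(Z(S)))`

`Base/OZ.lean` with `Lines S B V` replaced by `LinesZ S Z B V`; `PanZ S B V T X` is unchanged (`X ≤ C_G(Ω₁(Z(S)))`).
-/

set_option autoImplicit false

namespace Cfsg.Agent.Omega.NO3b.ZP.Base

open Subgroup Cfsg
open Cfsg.Agent.ZN (o2 zc zl jj zj)
open Cfsg.Agent.ZN.ChoiceBase hiding mem_zc
open Cfsg.Agent.ZN.ChoiceSit (Syl exists_syl syl_conj o2_le_syl syl_not_dvd)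
open Cfsg.Agent.MinSimple.EmptyTI (syl_of_le)
open Cfsg.Agent.Omega.NO3b.EZero (NotFF cent_symm cj_cent cj_norm cj_eq_cj_iff cl le_cl cj_le_cl cl_le
  le_normalizer_cl le_normalizer_inf_cent oddGen_sup_syl isPGroup_Q0 sq_of_comm)
open Cfsg.Agent.Omega.FFThm (ElemM OffM NoOverM)
open Cfsg.Agent.Omega.NOThreeL.Star (Opt Ok exists_opt ff)
open Cfsg.Agent.Omega.NO3b.Wc
open Cfsg.Agent.Omega.NO3b.Exit
open Cfsg.Agent.Omega.NO3b.Base (WY wc_WY WY_le le_WY mem_norm_WY VY PanZ)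
open Cfsg.Agent.MinSimple.MinParabolic (IsMinPar)
open Cfsg.Agent.MinSimple.VModule (zc_le mem_zc le_centralizer_zc zc_sq
  le_normalizer_o2 o2_isPGroup le_o2 zc_comm normalizer_le_normalizer_zc o2_le oddGen oddGen_le
  mem_normalizer_of_map_le)

universe u

variable {G : Type u} [Group G] [Finite G] {S : Sylow 2 G} {Z B V H : Subgroup G}

section cl

variable (l : LinesZ S Z B V) (hH : H ≤ centralizer (Z : Set G))
include l hH

theorem cl_comm (hG : IsCharacteristicTwoType G) :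
    cl V H ≤ centralizer (cl V H : Set G) := by
  have hZ := l.Zne
  have hle : ∀ h ∈ H, Z ≤ cj h V := by
    intro h hh
    have h1 := cj_mono h l.ZV
    rwa [cj_eq_of_mem_normalizer (centralizer_le_normalizer _ (hH hh))] at h1
  refine cl_le fun a ha => cent_symm (cl_le fun b hb => ?_)
  refine l.comm_of_inter (l.char2 hG) fun h0 => hZ (le_bot_iff.1 ?_)
  rw [← h0]
  exact le_inf (hle b hb) (hle a ha)

theorem cl_sq (hG : IsCharacteristicTwoType G) : ∀ y ∈ cl V H, y ^ 2 = 1 := by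
  refine sq_of_comm (cl_comm l hH hG) (B := fun h : H => cj (h : G) V) (fun h => cj_le_cl h.2) le_rfl
    fun h b hb => l.cj_sq _ b hb

theorem cl_low : cl V H ≤ o2 (centralizer (Z : Set G)) := by
  refine cl_le fun x hx => ?_
  have h1 := cj_mono x l.low
  rwa [cj_eq_of_mem_normalizer (le_normalizer_o2 _ (hH hx))] at h1

theorem cl_le_S : cl V H ≤ (S : Subgroup G) :=
  (cl_low l hH).trans (o2_le_syl (syl_of_le l.S_cent))

theorem cl_inf_cent (hG : IsCharacteristicTwoType G) :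
    cl V H ⊓ centralizer (S : Set G) ≤ zc (S : Subgroup G) := by
  rintro y ⟨hy, hyc⟩
  exact Cfsg.Agent.ZN.ChoiceBase.mem_zc.2 ⟨cl_le_S l hH hy, cl_sq l hH hG y hy, fun s hs =>
    mem_centralizer_iff.1 hyc s hs⟩

end cl

/-- The frame of LEMMA OZ. -/
structure OZZ (S : Sylow 2 G) (Z Z₁ B V : Subgroup G) : Prop where
  lines : LinesZ S Z B V
  cs : (S : Subgroup G) ⊓ centralizer (V : Set G) = B
  eq : V = cl Z₁ (normalizer (B : Set G))
  zZ : Z ≤ Z₁
  max : ∀ B' : Subgroup G, B' ≤ B → WC (S : Subgroup G) B' →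
    (S : Subgroup G) ⊓ centralizer (cl Z₁ (normalizer (B' : Set G)) : Set G) = B' →
    cl Z₁ (normalizer (B' : Set G)) ≤ centralizer (cl Z₁ (normalizer (B' : Set G)) : Set G) →
    (∀ v ∈ cl Z₁ (normalizer (B' : Set G)), v ^ 2 = 1) → NotFF (cl Z₁ (normalizer (B' : Set G))) →
    cl Z₁ (normalizer (B' : Set G)) ≤ o2 (centralizer (Z : Set G)) →
    V ≤ cl Z₁ (normalizer (B' : Set G)) → cl Z₁ (normalizer (B' : Set G)) ≤ V

end Cfsg.Agent.Omega.NO3b.ZP.Base

namespace Cfsg.Agent.Omega.NO3b.Base.PanZ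

open Subgroup Cfsg
open Cfsg.Agent.ZN (o2 zc zl jj zj)
open Cfsg.Agent.ZN.ChoiceBase hiding mem_zc
open Cfsg.Agent.ZN.ChoiceSit (Syl exists_syl syl_conj o2_le_syl syl_not_dvd)
open Cfsg.Agent.MinSimple.EmptyTI (syl_of_le)
open Cfsg.Agent.Omega.NO3b.EZero (NotFF cent_symm cj_cent cj_norm cj_eq_cj_iff cl le_cl cj_le_cl cl_le
  le_normalizer_cl le_normalizer_inf_cent oddGen_sup_syl isPGroup_Q0 sq_of_comm)
open Cfsg.Agent.Omega.FFThm (ElemM OffM NoOverM)
open Cfsg.Agent.Omega.NOThreeL.Star (Opt Ok exists_opt ff)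
open Cfsg.Agent.Omega.NO3b.Wc
open Cfsg.Agent.Omega.NO3b.Exit
open Cfsg.Agent.Omega.NO3b.Base (WY wc_WY WY_le le_WY mem_norm_WY VY PanZ)
open Cfsg.Agent.MinSimple.MinParabolic (IsMinPar)
open Cfsg.Agent.MinSimple.VModule (zc_le mem_zc le_centralizer_zc zc_sq
  le_normalizer_o2 o2_isPGroup le_o2 zc_comm normalizer_le_normalizer_zc o2_le oddGen oddGen_le
  mem_normalizer_of_map_le)

open Cfsg.Agent.Omega.NO3b.ZP (LinesZ)
open Cfsg.Agent.Omega.NO3b.ZP.Base (RootYZ OZZ)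

universe u

variable {G : Type u} [Group G] [Finite G] {S : Sylow 2 G} {Z B V : Subgroup G}
variable {T X : Subgroup G} (p : PanZ S B V T X)
include p

variable (l : LinesZ S Z B V)
include l

theorem SX_centZ : (S : Subgroup G) ⊔ X ≤ centralizer (Z : Set G) := p.SX_cent.trans (centralizer_le l.Zc)

/-- `C_T(⟨V^X⟩) ≤ O₂(X)` -/
theorem cent_UZ : T ⊓ centralizer (cl V X : Set G) ≤ o2 X := by
  rcases K0.min_or p.syl p.mp (K := X ⊓ centralizer (cl V X : Set G)) inf_le_left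
    (le_normalizer_inf_cent (le_normalizer_cl _ _)) with h1 | h1
  · exfalso
    apply p.nle
    rw [← oddGen_sup_syl p.syl]
    refine sup_le ?_ (p.TS.trans l.S_le)
    exact (h1.trans inf_le_right).trans ((centralizer_le (le_cl _ _)).trans (centralizer_le_normalizer _))
  · exact (le_inf inf_le_left (le_inf (inf_le_left.trans p.syl.1) inf_le_right)).trans h1

/-- maximisers on `Y` in `S` centralise `V` -/
theorem max_leZ (hG : IsCharacteristicTwoType G) {D : Subgroup G}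
    (hD : Ok (cl V ((S : Subgroup G) ⊔ X)) D)
    (hm : ∀ C, Ok (cl V ((S : Subgroup G) ⊔ X)) C →
      ff (cl V ((S : Subgroup G) ⊔ X)) C ≤ ff (cl V ((S : Subgroup G) ⊔ X)) D)
    (hDS : D ≤ (S : Subgroup G)) : D ≤ centralizer (V : Set G) := by
  by_contra hne
  have hoff := offM_of_max hD hm (ZP.Base.cl_comm l (p.SX_centZ l) hG) (le_cl _ _) hne
  have h3 := l.nff D hD.pg (hDS.trans l.S_le) hoff.sq hoff.comm hne
  exact absurd (FFThm.relIndex_le_iff.1 hoff.le) (not_le.2 h3)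

/-- The frame of `Wcy.lean` for `Y = ⟨V^⟨S,X⟩⟩`, if `Y` is not FF. -/
theorem rootYZ {Z₁ : Subgroup G} (cs : (S : Subgroup G) ⊓ centralizer (V : Set G) = B)
    (eq : V = cl Z₁ (normalizer (B : Set G))) (zZ : Z ≤ Z₁) (hG : IsCharacteristicTwoType G)
    (hn : NotFF (cl V ((S : Subgroup G) ⊔ X))) :
    RootYZ S Z Z₁ (cl V ((S : Subgroup G) ⊔ X)) ∧
      WY (S : Subgroup G) (cl V ((S : Subgroup G) ⊔ X)) ≤ B ∧
      normalizer (B : Set G) ⊔ X ≤ normalizer (WY (S : Subgroup G) (cl V ((S : Subgroup G) ⊔ X)) : Set G) := by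
  set Y := cl V ((S : Subgroup G) ⊔ X) with hY
  have hVY : V ≤ Y := le_cl _ _
  have hYn : (S : Subgroup G) ⊔ X ≤ normalizer (Y : Set G) := le_normalizer_cl _ _
  have hWB : WY (S : Subgroup G) Y ≤ B := by
    rw [← cs]
    exact (WY_le _ _).trans (inf_le_inf_left _ (centralizer_le hVY))
  have hWX : WY (S : Subgroup G) Y ≤ o2 X := by
    refine le_trans (le_inf (hWB.trans p.BT) ?_) (p.cent_UZ l)
    exact ((WY_le _ _).trans inf_le_right).trans (centralizer_le (cl_le fun x hx => cj_le_cl (mem_sup_right hx)))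
  have hNB : normalizer (B : Set G) ≤ normalizer (WY (S : Subgroup G) Y : Set G) := by
    intro g hg
    refine mem_norm_WY ?_
    have h1 := cj_mono g hWB
    rw [cj_eq_of_mem_normalizer hg] at h1
    exact h1.trans l.JS
  have hX : X ≤ normalizer (WY (S : Subgroup G) Y : Set G) := by
    intro x hx
    refine mem_norm_WY ?_
    have h1 := cj_mono x hWX
    rw [cj_eq_of_mem_normalizer (le_normalizer_o2 _ hx)] at h1
    exact h1.trans ((o2_le_syl p.syl).trans p.TS)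
  have hSX : (S : Subgroup G) ⊔ X ≤ normalizer (WY (S : Subgroup G) Y : Set G) :=
    sup_le (wc_S_le (wc_WY _ _)) hX
  have hVV : V ≤ VY Z₁ (S : Subgroup G) Y := by
    conv_lhs => rw [eq]
    exact cl_le fun g hg => cj_le_cl (hNB hg)
  have hYV : Y ≤ VY Z₁ (S : Subgroup G) Y := by
    refine cl_le fun g hg => ?_
    have h1 := cj_mono g hVV
    have h2 : cj g (VY Z₁ (S : Subgroup G) Y) = VY Z₁ (S : Subgroup G) Y :=
      cj_eq_of_mem_normalizer (le_normalizer_cl _ _ (hSX hg))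
    rwa [h2] at h1
  have hZV : Z₁ ≤ V := by
    rw [eq]
    exact le_cl _ _
  exact ⟨{ Zne := l.Zne
           Zc := l.Zc
           SY := le_sup_left.trans hYn
           YS := ZP.Base.cl_le_S l (p.SX_centZ l)
           comm := ZP.Base.cl_comm l (p.SX_centZ l) hG
           sq := ZP.Base.cl_sq l (p.SX_centZ l) hG
           nff := hn
           zZ := zZ
           ZY := hZV.trans hVY
           YV := hYV }, hWB, sup_le hNB hX⟩

/-- **A step of the chain**: if `Y = ⟨V^⟨S,X⟩⟩` is not FF then `⟨N_G(B), X⟩` is local, `V_{L'} = ⟨Z₁^⟨N_G(B),X⟩⟩` is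
not FF and lies in `O₂(C_G(Z))`. -/
theorem step_ofZ {Z₁ : Subgroup G} (cs : (S : Subgroup G) ⊓ centralizer (V : Set G) = B)
    (eq : V = cl Z₁ (normalizer (B : Set G))) (zZ : Z ≤ Z₁) (hG : IsCharacteristicTwoType G)
    (hOff : StmtOff G) (hn : NotFF (cl V ((S : Subgroup G) ⊔ X))) :
    (∃ R : Subgroup G, R ≠ ⊥ ∧ IsPGroup 2 R ∧ normalizer (B : Set G) ≤ normalizer (R : Set G) ∧
      X ≤ normalizer (R : Set G)) ∧
    NotFF (cl Z₁ (normalizer (B : Set G) ⊔ X)) ∧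
    cl Z₁ (normalizer (B : Set G) ⊔ X) ≤ o2 (centralizer (Z : Set G)) := by
  obtain ⟨r, hWB, hL⟩ := p.rootYZ l cs eq zZ hG hn
  set Y := cl V ((S : Subgroup G) ⊔ X) with hY
  set L := normalizer (B : Set G) ⊔ X with hLd
  have hSL : (S : Subgroup G) ≤ L := l.S_le_NJ.trans le_sup_left
  have hLn : L ≤ normalizer (cl Z₁ L : Set G) := le_normalizer_cl _ _
  have hU : cl Z₁ L ≤ VY Z₁ (S : Subgroup G) Y := cl_le fun g hg => cj_le_cl (hL hg)
  have hVU : V ≤ cl Z₁ L := by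
    conv_lhs => rw [eq]
    exact cl_le fun g hg => cj_le_cl (mem_sup_left hg)
  have hYU : Y ≤ cl Z₁ L := by
    refine cl_le fun g hg => ?_
    have h1 := cj_mono g hVU
    have h2 : cj g (cl Z₁ L) = cl Z₁ L :=
      cj_eq_of_mem_normalizer (hLn ((sup_le hSL le_sup_right : (S : Subgroup G) ⊔ X ≤ L) hg))
    rwa [h2] at h1
  have hUc : cl Z₁ L ≤ centralizer (cl Z₁ L : Set G) := (hU.trans r.V_comm).trans (centralizer_le hU)
  refine ⟨⟨WY (S : Subgroup G) Y, fun h0 => ?_, S.isPGroup'.to_le ((WY_le _ _).trans inf_le_left),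
    le_sup_left.trans hL, le_sup_right.trans hL⟩, ?_, hU.trans (r.low hG hOff (ZP.Base.cl_low l (p.SX_centZ l)))⟩
  · have h1 : Z ≤ ⊥ := by
      rw [← h0]
      exact (zZ.trans r.ZY).trans (r.Y_le_jj.trans r.jj_le)
    exact l.Zne (le_bot_iff.1 h1)
  · by_contra hff
    obtain ⟨A0, hA0⟩ := exists_opt hff
    obtain ⟨n, hn', hnS⟩ := FFThm.exists_conj_le S (hSL.trans hLn) hA0.pg hA0.norm
    have hD : ∀ D, Opt (cl Z₁ L) D → D ≤ (S : Subgroup G) → D ≤ B ∧ D ≤ o2 X := by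
      intro D hD hDS
      have hDY : D ≤ centralizer (Y : Set G) := by
        by_contra hne
        have hoff := offM_of_opt hD hUc hYU hne
        have h3 := hn D hD.pg (hDS.trans r.SY) hoff.sq hoff.comm hne
        exact absurd (FFThm.relIndex_le_iff.1 hoff.le) (not_le.2 h3)
      have hDB : D ≤ B := by
        rw [← cs]
        exact le_inf hDS (hDY.trans (centralizer_le (le_cl _ _)))
      refine ⟨hDB, le_trans (le_inf (hDB.trans p.BT) ?_) (p.cent_UZ l)⟩
      exact hDY.trans (centralizer_le (cl_le fun x hx => cj_le_cl (mem_sup_right hx)))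
    set K : Subgroup G := sSup {D | Opt (cl Z₁ L) D ∧ D ≤ (S : Subgroup G)} with hK
    have hKB : K ≤ B := sSup_le fun D h => (hD D h.1 h.2).1
    have hKn : L ≤ normalizer (K : Set G) := by
      have h1 : ∀ g ∈ L, (∀ D, Opt (cl Z₁ L) D → D ≤ (S : Subgroup G) → cj g D ≤ (S : Subgroup G)) →
          g ∈ normalizer (K : Set G) := by
        intro g hg h1
        refine mem_normalizer_of_map_le ?_
        change cj g K ≤ K
        rw [hK, cj_sSup]
        refine iSup_le fun D => ?_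
        exact le_sSup (a := cj g D) ⟨D.2.1.cj (hLn hg), h1 D D.2.1 D.2.2⟩
      refine sup_le (fun m hm => h1 m (mem_sup_left hm) fun D hD1 hDS => ?_)
        (fun x hx => h1 x (mem_sup_right hx) fun D hD1 hDS => ?_)
      · have h2 := cj_mono m (hD D hD1 hDS).1
        rw [cj_eq_of_mem_normalizer hm] at h2
        exact h2.trans l.JS
      · have h2 := cj_mono x (hD D hD1 hDS).2
        rw [cj_eq_of_mem_normalizer (le_normalizer_o2 _ hx)] at h2
        exact h2.trans ((o2_le_syl p.syl).trans p.TS)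
    have hZV : Z₁ ≤ V := by
      rw [eq]
      exact le_cl _ _
    have hKU : K ≤ centralizer (cl Z₁ L : Set G) := by
      refine cent_symm (cl_le fun x hx => ?_)
      have h1 := cj_cent (g := x) (cent_symm (hKB.trans (l.JV.trans (centralizer_le hZV))))
      rwa [cj_eq_of_mem_normalizer (hKn hx)] at h1
    have h2 : cj n A0 ∈ {D | Opt (cl Z₁ L) D ∧ D ≤ (S : Subgroup G)} := ⟨hA0.cj hn', hnS⟩
    exact (hA0.cj hn').ne ((le_sSup h2).trans hKU)

omit l in
/-- **`Y = ⟨V^⟨S,X⟩⟩` is FF** for `V` maximal. -/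
theorem Y_ffZ {Z₁ : Subgroup G} (o : OZZ S Z Z₁ B V) (hG : IsCharacteristicTwoType G) (hOff : StmtOff G) : ¬ NotFF (cl V ((S : Subgroup G) ⊔ X)) := by
  intro hn
  have l := o.lines
  obtain ⟨r, hWB, hL⟩ := p.rootYZ l o.cs o.eq o.zZ hG hn
  have hVY : V ≤ cl V ((S : Subgroup G) ⊔ X) := le_cl _ _
  have h1 := o.max (WY (S : Subgroup G) (cl V ((S : Subgroup G) ⊔ X))) hWB (wc_WY _ _) r.cs_V r.V_comm r.V_sq
    r.V_nff (r.low hG hOff (ZP.Base.cl_low l (p.SX_centZ l))) (hVY.trans r.YV)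
  apply p.nle
  have h2 : cl V ((S : Subgroup G) ⊔ X) = V := le_antisymm (r.YV.trans h1) hVY
  have h3 := le_sup_right.trans (le_normalizer_cl V ((S : Subgroup G) ⊔ X))
  rwa [h2] at h3

/-- an optimal offender `A ≤ B` of `Y = ⟨V^⟨S,X⟩⟩` with `A ≰ O₂(X)`, if `Y` is FF -/
theorem exists_opt_of_ffZ (cs : (S : Subgroup G) ⊓ centralizer (V : Set G) = B) (hG : IsCharacteristicTwoType G)
    (hff : ¬ NotFF (cl V ((S : Subgroup G) ⊔ X))) :
    ∃ A, Opt (cl V ((S : Subgroup G) ⊔ X)) A ∧ A ≤ B ∧ ¬ A ≤ o2 X := by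
  set Y := cl V ((S : Subgroup G) ⊔ X) with hY
  have hYn : (S : Subgroup G) ⊔ X ≤ normalizer (Y : Set G) := le_normalizer_cl _ _
  have hYS : (S : Subgroup G) ≤ normalizer (Y : Set G) := le_sup_left.trans hYn
  obtain ⟨A0, hA0⟩ := exists_opt hff
  obtain ⟨n, hn, hnS⟩ := FFThm.exists_conj_le S hYS hA0.pg hA0.norm
  have hB : ∀ D, Opt Y D → D ≤ (S : Subgroup G) → D ≤ B := fun D hD hDS =>
    (le_inf hDS (p.max_leZ l hG hD.toOk hD.max hDS)).trans cs.le
  by_contra hcon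
  push Not at hcon
  set K : Subgroup G := sSup {D | Opt Y D ∧ D ≤ (S : Subgroup G)} with hK
  have hKB : K ≤ B := sSup_le fun D hD => hB D hD.1 hD.2
  have hKX : K ≤ o2 X := sSup_le fun D hD => hcon D hD.1 (hB D hD.1 hD.2)
  have hKn : (S : Subgroup G) ⊔ X ≤ normalizer (K : Set G) := by
    have h1 : ∀ g ∈ (S : Subgroup G) ⊔ X, (∀ D, Opt Y D → D ≤ (S : Subgroup G) → cj g D ≤ (S : Subgroup G)) →
        g ∈ normalizer (K : Set G) := by
      intro g hg h1
      refine mem_normalizer_of_map_le ?_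
      change cj g K ≤ K
      rw [hK, cj_sSup]
      refine iSup_le fun D => ?_
      exact le_sSup (a := cj g D) ⟨D.2.1.cj (hYn hg), h1 D D.2.1 D.2.2⟩
    refine sup_le (fun s hs => h1 s (mem_sup_left hs) fun D _ hDS => ?_)
      (fun x hx => h1 x (mem_sup_right hx) fun D hD hDS => ?_)
    · have h2 := cj_mono s hDS
      rwa [cj_eq_of_mem_normalizer (Subgroup.le_normalizer hs)] at h2
    · have h2 := cj_mono x (hcon D hD (hB D hD hDS))
      rw [cj_eq_of_mem_normalizer (le_normalizer_o2 _ hx)] at h2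
      exact h2.trans ((o2_le_syl p.syl).trans p.TS)
  have hKV : K ≤ centralizer (V : Set G) := hKB.trans l.JV
  have hKY : K ≤ centralizer (Y : Set G) := by
    refine cent_symm (cl_le fun x hx => ?_)
    have h1 := cj_cent (g := x) (cent_symm hKV)
    rwa [cj_eq_of_mem_normalizer (hKn hx)] at h1
  have h2 : cj n A0 ∈ {D | Opt Y D ∧ D ≤ (S : Subgroup G)} := ⟨hA0.cj hn, hnS⟩
  exact (hA0.cj hn).ne ((le_sSup h2).trans hKY)

omit l in
/-- **LEMMA OZ**: an optimal offender `A ≤ B` of `Y = ⟨V^⟨S,X⟩⟩` with `A ≰ O₂(X)`. -/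
theorem exists_optYZ {Z₁ : Subgroup G} (o : OZZ S Z Z₁ B V) (hG : IsCharacteristicTwoType G) (hOff : StmtOff G) :
    ∃ A, Opt (cl V ((S : Subgroup G) ⊔ X)) A ∧ A ≤ B ∧ ¬ A ≤ o2 X :=
  p.exists_opt_of_ffZ o.lines o.cs hG (p.Y_ffZ o hG hOff)

end Cfsg.Agent.Omega.NO3b.Base.PanZ
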